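import Mathlib
import Cfsg.Agent.Lib.Lead.A10.KData

/-!
# S3489, package A2: facts about `K = ⟨a, b⟩ ≤ GL_4(F_7)`
-/

set_option autoImplicit false

namespace Cfsg.Agent.Lib.A10.A2

open Matrix

/-! ### the group -/

set_option maxRecDepth 100000 in
theorem aM_pow8 : aM ^ 8 = 1 := by decide
set_option maxRecDepth 100000 in
theorem bM_pow6 : bM ^ 6 = 1 := by decide
set_option maxRecDepth 100000 in
theorem bM_pow3 : bM ^ 3 = -1 := by decide

theorem aM_det : IsUnit aM.det :=
  Matrix.isUnit_det_of_left_inverse (B := aM ^ 7) (by rw [← pow_succ, aM_pow8])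
theorem bM_det : IsUnit bM.det :=
  Matrix.isUnit_det_of_left_inverse (B := bM ^ 5) (by rw [← pow_succ, bM_pow6])

noncomputable def aG : GL (Fin 4) (ZMod 7) := Matrix.GeneralLinearGroup.mk'' aM aM_det
noncomputable def bG : GL (Fin 4) (ZMod 7) := Matrix.GeneralLinearGroup.mk'' bM bM_det

theorem aG_val : (aG : Matrix (Fin 4) (Fin 4) (ZMod 7)) = aM := rfl
theorem bG_val : (bG : Matrix (Fin 4) (Fin 4) (ZMod 7)) = bM := rfl

/-- the group `K` -/
noncomputable def KK : Subgroup (GL (Fin 4) (ZMod 7)) := Subgroup.closure {aG, bG}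

theorem aG_pow8 : aG ^ 8 = 1 := by
  apply Units.ext
  rw [Units.val_pow_eq_pow_val, aG_val, aM_pow8, Units.val_one]

theorem bG_pow6 : bG ^ 6 = 1 := by
  apply Units.ext
  rw [Units.val_pow_eq_pow_val, bG_val, bM_pow6, Units.val_one]

theorem aG_inv : aG⁻¹ = aG ^ 7 := inv_eq_of_mul_eq_one_right (by rw [← pow_succ', aG_pow8])
theorem bG_inv : bG⁻¹ = bG ^ 5 := inv_eq_of_mul_eq_one_right (by rw [← pow_succ', bG_pow6])

theorem aM_pow_mul (n : ℕ) (i : Fin 240) : aM ^ n * C i = C ((T taL)^[n] i) := by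
  induction n generalizing i with
  | zero => rw [pow_zero, one_mul, Function.iterate_zero, id]
  | succ n ih => rw [pow_succ, mul_assoc, ta_ok, ih, Function.iterate_succ, Function.comp]

theorem bM_pow_mul (n : ℕ) (i : Fin 240) : bM ^ n * C i = C ((T tbL)^[n] i) := by
  induction n generalizing i with
  | zero => rw [pow_zero, one_mul, Function.iterate_zero, id]
  | succ n ih => rw [pow_succ, mul_assoc, tb_ok, ih, Function.iterate_succ, Function.comp]

/-- every element of `K` is in the list -/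
theorem mem_list : ∀ g ∈ KK, ∃ i : Fin 240, (g : Matrix (Fin 4) (Fin 4) (ZMod 7)) = C i := by
  intro g hg
  have hg' : g ∈ Subgroup.closure ({aG, bG} : Set (GL (Fin 4) (ZMod 7))) := hg
  refine Subgroup.closure_induction_left (p := fun (g : GL (Fin 4) (ZMod 7))
    (_ : g ∈ Subgroup.closure ({aG, bG} : Set (GL (Fin 4) (ZMod 7)))) => ∃ i : Fin 240,
    (g : Matrix (Fin 4) (Fin 4) (ZMod 7)) = C i) ?_ ?_ ?_ hg'
  · exact ⟨30, by rw [Units.val_one, one_ok]⟩
  · intro x hx y _ ⟨i, hi⟩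
    rcases hx with rfl | rfl
    · exact ⟨T taL i, by rw [Units.val_mul, hi, aG_val, ta_ok]⟩
    · exact ⟨T tbL i, by rw [Units.val_mul, hi, bG_val, tb_ok]⟩
  · intro x hx y _ ⟨i, hi⟩
    rcases hx with rfl | rfl
    · exact ⟨(T taL)^[7] i, by
        rw [Units.val_mul, hi, aG_inv, Units.val_pow_eq_pow_val, aG_val, aM_pow_mul]⟩
    · exact ⟨(T tbL)^[5] i, by
        rw [Units.val_mul, hi, bG_inv, Units.val_pow_eq_pow_val, bG_val, bM_pow_mul]⟩

/-- `K` acts fixed-point-freely on `F_7^4` -/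
theorem fpf : ∀ k ∈ KK, k ≠ 1 → ∀ x : Fin 4 → ZMod 7,
    (k : Matrix (Fin 4) (Fin 4) (ZMod 7)).mulVec x = x → x = 0 := by
  intro k hk hk1 x hx
  obtain ⟨i, hi⟩ := mem_list k hk
  have hi30 : i ≠ 30 := by
    rintro rfl
    apply hk1
    apply Units.ext
    rw [hi, one_ok, Units.val_one]
  have h1 := inv_ok i hi30
  have h2 : (C i - 1).mulVec x = 0 := by
    rw [Matrix.sub_mulVec, Matrix.one_mulVec, ← hi, hx, sub_self]
  have h3 : x = (dec (icodes.getD i.val 0) * (C i - 1)).mulVec x := by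
    rw [h1, Matrix.one_mulVec]
  rw [h3, ← Matrix.mulVec_mulVec, h2, Matrix.mulVec_zero]

/-- the only involution of `K` is `-1` -/
theorem invol : ∀ k ∈ KK, k ^ 2 = 1 → k = 1 ∨ k = -1 := by
  intro k hk hk2
  obtain ⟨i, hi⟩ := mem_list k hk
  have h1 : C i * C i = 1 := by
    rw [← hi, ← sq, ← Units.val_pow_eq_pow_val, hk2, Units.val_one]
  rw [sq_ok] at h1
  rcases invol_ok i (one_inj _ h1) with h | h
  · left
    apply Units.ext
    rw [hi, h, one_ok, Units.val_one]
  · right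
    apply Units.ext
    rw [hi, h]
    simp

theorem aG_mem : aG ∈ KK := Subgroup.subset_closure (by simp)
theorem bG_mem : bG ∈ KK := Subgroup.subset_closure (by simp)

theorem neg_one_mem : (-1 : GL (Fin 4) (ZMod 7)) ∈ KK := by
  have h : (-1 : GL (Fin 4) (ZMod 7)) = bG ^ 3 := by
    apply Units.ext
    rw [Units.val_pow_eq_pow_val, bG_val, bM_pow3]
    simp
  rw [h]
  exact pow_mem bG_mem 3

theorem dvd8 {d : ℕ} (h : d ∣ 8) : d = 1 ∨ d = 2 ∨ d = 4 ∨ d = 8 := by
  have hle := Nat.le_of_dvd (by norm_num) h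
  interval_cases d <;> revert h <;> decide
theorem dvd10 {d : ℕ} (h : d ∣ 10) : d = 1 ∨ d = 2 ∨ d = 5 ∨ d = 10 := by
  have hle := Nat.le_of_dvd (by norm_num) h
  interval_cases d <;> revert h <;> decide
theorem dvd12 {d : ℕ} (h : d ∣ 12) : d = 1 ∨ d = 2 ∨ d = 3 ∨ d = 4 ∨ d = 6 ∨ d = 12 := by
  have hle := Nat.le_of_dvd (by norm_num) h
  interval_cases d <;> revert h <;> decide

theorem orderOf_mem : ∀ k ∈ KK, orderOf k ∈ ({1, 2, 3, 4, 5, 6, 8, 10, 12} : Set ℕ) := by
  intro k hk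
  obtain ⟨i, hi⟩ := mem_list k hk
  rw [← orderOf_units, hi]
  have h8 : C i ^ 8 = C (T sqL (T sqL (T sqL i))) := by
    have : C i ^ 8 = ((C i * C i) * (C i * C i)) * ((C i * C i) * (C i * C i)) := by noncomm_ring
    rw [this, sq_ok, sq_ok, sq_ok]
  have h10 : C i ^ 10 = C (T sqL (T p5L i)) := by
    have : C i ^ 10 = (((C i * C i) * (C i * C i)) * C i) * (((C i * C i) * (C i * C i)) * C i) := by
      noncomm_ring
    rw [this, sq_ok, sq_ok, p5_ok, sq_ok]
  have h12 : C i ^ 12 = C (T sqL (T sqL (T p3L i))) := by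
    have : C i ^ 12 = ((C i * (C i * C i)) * (C i * (C i * C i))) *
        ((C i * (C i * C i)) * (C i * (C i * C i))) := by noncomm_ring
    rw [this, sq_ok, p3_ok, sq_ok, sq_ok]
  simp only [Set.mem_insert_iff, Set.mem_singleton_iff]
  rcases ord_ok i with h | h | h
  · rw [h, one_ok] at h8
    rcases dvd8 (orderOf_dvd_of_pow_eq_one h8) with h | h | h | h <;> rw [h] <;> simp
  · rw [h, one_ok] at h10
    rcases dvd10 (orderOf_dvd_of_pow_eq_one h10) with h | h | h | h <;> rw [h] <;> simp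
  · rw [h, one_ok] at h12
    rcases dvd12 (orderOf_dvd_of_pow_eq_one h12) with h | h | h | h | h | h <;> rw [h] <;> simp

set_option maxRecDepth 100000 in
theorem ord_a : orderOf aM = 8 := by
  rw [orderOf_eq_iff (by norm_num)]; decide
set_option maxRecDepth 100000 in
theorem ord_aa : orderOf (aM * aM) = 4 := by
  rw [orderOf_eq_iff (by norm_num)]; decide
set_option maxRecDepth 100000 in
theorem ord_b : orderOf bM = 6 := by
  rw [orderOf_eq_iff (by norm_num)]; decide
set_option maxRecDepth 100000 in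
theorem ord_bb : orderOf (bM * bM) = 3 := by
  rw [orderOf_eq_iff (by norm_num)]; decide
set_option maxRecDepth 100000 in
theorem ord_bbb : orderOf (bM * bM * bM) = 2 := by
  rw [orderOf_eq_iff (by norm_num)]; decide
set_option maxRecDepth 100000 in
theorem ord_aab : orderOf (aM * aM * bM) = 5 := by
  rw [orderOf_eq_iff (by norm_num)]; decide
set_option maxRecDepth 100000 in
theorem ord_abb : orderOf (aM * bM * bM) = 12 := by
  rw [orderOf_eq_iff (by norm_num)]; decide
set_option maxRecDepth 100000 in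
theorem ord_ababb : orderOf (aM * bM * aM * bM * bM) = 10 := by
  rw [orderOf_eq_iff (by norm_num)]; decide

theorem exists_orderOf : ∀ n ∈ ({1, 2, 3, 4, 5, 6, 8, 10, 12} : Set ℕ), ∃ k ∈ KK, orderOf k = n := by
  intro n hn
  have ha := aG_mem
  have hb := bG_mem
  simp only [Set.mem_insert_iff, Set.mem_singleton_iff] at hn
  rcases hn with rfl | rfl | rfl | rfl | rfl | rfl | rfl | rfl | rfl
  · exact ⟨1, one_mem _, orderOf_one⟩
  · exact ⟨bG * bG * bG, mul_mem (mul_mem hb hb) hb, by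
      rw [← orderOf_units]; simpa [aG_val, bG_val] using ord_bbb⟩
  · exact ⟨bG * bG, mul_mem hb hb, by
      rw [← orderOf_units]; simpa [aG_val, bG_val] using ord_bb⟩
  · exact ⟨aG * aG, mul_mem ha ha, by
      rw [← orderOf_units]; simpa [aG_val, bG_val] using ord_aa⟩
  · exact ⟨aG * aG * bG, mul_mem (mul_mem ha ha) hb, by
      rw [← orderOf_units]; simpa [aG_val, bG_val] using ord_aab⟩
  · exact ⟨bG, hb, by rw [← orderOf_units]; simpa [aG_val, bG_val] using ord_b⟩
  · exact ⟨aG, ha, by rw [← orderOf_units]; simpa [aG_val, bG_val] using ord_a⟩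
  · exact ⟨aG * bG * aG * bG * bG, mul_mem (mul_mem (mul_mem (mul_mem ha hb) ha) hb) hb, by
      rw [← orderOf_units]; simpa [aG_val, bG_val] using ord_ababb⟩
  · exact ⟨aG * bG * bG, mul_mem (mul_mem ha hb) hb, by
      rw [← orderOf_units]; simpa [aG_val, bG_val] using ord_abb⟩

end Cfsg.Agent.Lib.A10.A2
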