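import Mathlib
import Cfsg.Agent.Lib.Lead.A10.Spec
import Cfsg.Agent.Lib.Helper3.A10.Semi
import Cfsg.Agent.Lib.Lead.A10.K

/-!
# S3489: groups of unbounded order isospectral to `A₁₀`

`H_j = (F_7^4 × B^j) ⋊ K` with `K = ⟨a, b⟩ ≤ GL_4(F_7)` (`K ≅ 2.S₅⁻`) and
`B = {f : K → F_3 | f (z k) = - f k}`.
-/

set_option autoImplicit false

namespace Cfsg.Agent.Lib.A10

open A2

/-- the group `K` as a type -/
abbrev KT : Type := ↥KK

instance : Finite KT := inferInstance

/-- the central involution `z = -1` of `K` -/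
noncomputable def zK : KT := ⟨-1, neg_one_mem⟩

theorem zK_mul (k : KT) : zK * k = k * zK := by
  apply Subtype.ext
  show (-1 : GL (Fin 4) (ZMod 7)) * (k : GL (Fin 4) (ZMod 7)) = (k : GL (Fin 4) (ZMod 7)) * (-1)
  simp

theorem zK_sq : zK * zK = 1 := by
  apply Subtype.ext
  show (-1 : GL (Fin 4) (ZMod 7)) * (-1) = 1
  simp

theorem zK_ne_one : zK ≠ 1 := by
  intro h
  have h1 : ((-1 : GL (Fin 4) (ZMod 7)) : Matrix (Fin 4) (Fin 4) (ZMod 7)) = 1 := by
    have := congrArg (fun k : KT => ((k : GL (Fin 4) (ZMod 7)) : Matrix (Fin 4) (Fin 4) (ZMod 7))) h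
    simpa [zK] using this
  have h2 := congrFun (congrFun h1 0) 0
  simp at h2
  revert h2
  decide

/-! ### the module `A = F_7^4` -/

/-- `F_7^4` as a `K`-module -/
def AV : Type := Fin 4 → ZMod 7

instance : AddCommGroup AV := inferInstanceAs (AddCommGroup (Fin 4 → ZMod 7))
instance : Finite AV := inferInstanceAs (Finite (Fin 4 → ZMod 7))

noncomputable instance : DistribMulAction KT AV where
  smul k x := ((k : GL (Fin 4) (ZMod 7)) : Matrix (Fin 4) (Fin 4) (ZMod 7)).mulVec x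
  one_smul x := Matrix.one_mulVec x
  mul_smul _ _ x := (Matrix.mulVec_mulVec x _ _).symm
  smul_zero _ := Matrix.mulVec_zero _
  smul_add _ x y := Matrix.mulVec_add _ x y

theorem AV_smul_def (k : KT) (x : AV) :
    k • x = ((k : GL (Fin 4) (ZMod 7)) : Matrix (Fin 4) (Fin 4) (ZMod 7)).mulVec x := rfl

theorem AV_seven (x : AV) : 7 • x = 0 := by
  funext i
  show 7 • (x i) = 0
  rw [nsmul_eq_mul]
  have : ((7 : ℕ) : ZMod 7) = 0 := by decide
  rw [this, zero_mul]

theorem AV_fpf (k : KT) (hk : k ≠ 1) (x : AV) (hx : k • x = x) : x = 0 :=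
  fpf (k : GL (Fin 4) (ZMod 7)) k.2 (fun h => hk (Subtype.ext h)) x hx

/-- a nonzero vector of `A` -/
def x0 : AV := fun _ => 1

theorem x0_ne : x0 ≠ 0 := by
  intro h
  have := congrFun h 0
  revert this
  show (1 : ZMod 7) = 0 → False
  decide

/-! ### the module `B` -/

/-- `B = {f : K → F_3 | f (z k) = - f k}` -/
def BV : AddSubgroup (KT → ZMod 3) where
  carrier := {f | ∀ k, f (zK * k) = - f k}
  zero_mem' := by intro k; simp
  add_mem' := by
    intro f g hf hg k
    rw [Pi.add_apply, Pi.add_apply, hf k, hg k, neg_add]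
  neg_mem' := by
    intro f hf k
    rw [Pi.neg_apply, Pi.neg_apply, hf k]

instance : Finite BV := Subtype.finite

noncomputable instance : DistribMulAction KT BV where
  smul g f := ⟨fun x => f.1 (x * g), fun k => by
    show f.1 (zK * k * g) = - f.1 (k * g)
    rw [mul_assoc]
    exact f.2 (k * g)⟩
  one_smul f := by
    apply Subtype.ext
    funext x
    show f.1 (x * 1) = f.1 x
    rw [mul_one]
  mul_smul g h f := by
    apply Subtype.ext
    funext x
    show f.1 (x * (g * h)) = f.1 (x * g * h)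
    rw [mul_assoc]
  smul_zero g := by
    apply Subtype.ext
    funext x
    rfl
  smul_add g f f' := by
    apply Subtype.ext
    funext x
    rfl

theorem BV_smul_apply (g : KT) (f : BV) (x : KT) : (g • f).1 x = f.1 (x * g) := rfl

theorem BV_three (f : BV) : 3 • f = 0 := by
  apply Subtype.ext
  funext x
  show (3 • f.1) x = 0
  rw [Pi.smul_apply, nsmul_eq_mul]
  have : ((3 : ℕ) : ZMod 3) = 0 := by decide
  rw [this, zero_mul]

theorem BV_z (f : BV) : zK • f = -f := by
  apply Subtype.ext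
  funext x
  show f.1 (x * zK) = - f.1 x
  rw [← zK_mul]
  exact f.2 x

open Classical in
/-- the function `δ_1 - δ_z` -/
noncomputable def f0fun (x : KT) : ZMod 3 := if x = 1 then 1 else if x = zK then -1 else 0

theorem f0fun_one : f0fun 1 = 1 := by
  rw [f0fun, if_pos rfl]

theorem f0fun_z : f0fun zK = -1 := by
  rw [f0fun, if_neg zK_ne_one, if_pos rfl]

theorem f0fun_of_ne {x : KT} (h1 : x ≠ 1) (hz : x ≠ zK) : f0fun x = 0 := by
  rw [f0fun, if_neg h1, if_neg hz]

/-- the element `δ_1 - δ_z` of `B` -/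
noncomputable def f0 : BV :=
  ⟨f0fun, fun k => by
    by_cases h1 : k = 1
    · subst h1
      rw [mul_one, f0fun_z, f0fun_one]
    · by_cases h2 : k = zK
      · subst h2
        rw [zK_sq, f0fun_one, f0fun_z, neg_neg]
      · have h3 : zK * k ≠ 1 := by
          intro h
          apply h2
          have := congrArg (fun t => zK * t) h
          simp only [← mul_assoc, zK_sq, one_mul, mul_one] at this
          exact this
        have h4 : zK * k ≠ zK := by
          intro h
          apply h1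
          exact mul_left_cancel (h.trans (mul_one zK).symm)
        rw [f0fun_of_ne h3 h4, f0fun_of_ne h1 h2, neg_zero]⟩

theorem f0_one : f0.1 1 = 1 := f0fun_one

theorem f0_apply_of_ne {x : KT} (h1 : x ≠ 1) (hz : x ≠ zK) : f0.1 x = 0 := f0fun_of_ne h1 hz

theorem f0_ne : f0 ≠ 0 := by
  intro h
  have := congrArg (fun f : BV => f.1 1) h
  simp only [f0_one] at this
  revert this
  show (1 : ZMod 3) = (0 : KT → ZMod 3) 1 → False
  rw [Pi.zero_apply]
  decide

/-! ### norms -/

/-- the norm `Σ_{i < |k|} k^i • v` -/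
noncomputable def nrm {V : Type*} [AddCommGroup V] [DistribMulAction KT V] (k : KT) (v : V) : V :=
  ∑ i ∈ Finset.range (orderOf k), (k ^ i) • v

theorem smul_nrm {V : Type*} [AddCommGroup V] [DistribMulAction KT V] (k : KT) (v : V) :
    k • nrm k v = nrm k v := by
  have he : 0 < orderOf k := orderOf_pos k
  obtain ⟨e, he'⟩ : ∃ e, orderOf k = e + 1 := ⟨orderOf k - 1, by omega⟩
  rw [nrm, Finset.smul_sum, he']
  have h1 : ∀ i ∈ Finset.range (e + 1), k • (k ^ i) • v = (k ^ (i + 1)) • v := by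
    intro i _
    rw [← mul_smul, ← pow_succ']
  rw [Finset.sum_congr rfl h1, Finset.sum_range_succ (fun i => (k ^ (i + 1)) • v),
    Finset.sum_range_succ' (fun i => (k ^ i) • v), ← he', pow_orderOf_eq_one, pow_zero]

theorem nrm_fst {j : ℕ} (k : KT) (v : AV × (Fin j → BV)) : (nrm k v).1 = nrm k v.1 := by
  rw [nrm, nrm, Prod.fst_sum]
  rfl

theorem nrm_snd {j : ℕ} (k : KT) (v : AV × (Fin j → BV)) (l : Fin j) :
    (nrm k v).2 l = nrm k (v.2 l) := by
  rw [nrm, nrm, Prod.snd_sum, Finset.sum_apply]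
  rfl

theorem nrm_AV_eq_zero (k : KT) (hk : k ≠ 1) (x : AV) : nrm k x = 0 :=
  AV_fpf k hk _ (smul_nrm k x)

theorem eq_zK_of_sq {w : KT} (hw : w ^ 2 = 1) (hw1 : w ≠ 1) : w = zK := by
  have h1 : (w : GL (Fin 4) (ZMod 7)) ^ 2 = 1 := by
    have := congrArg (fun t : KT => (t : GL (Fin 4) (ZMod 7))) hw
    simpa using this
  rcases invol (w : GL (Fin 4) (ZMod 7)) w.2 h1 with h | h
  · exact absurd (Subtype.ext h) hw1
  · exact Subtype.ext h

theorem nrm_BV_eq_zero (k : KT) (hk : Even (orderOf k)) (f : BV) : nrm k f = 0 := by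
  obtain ⟨m, hm⟩ := hk
  have hm0 : 0 < m := by
    have := orderOf_pos k
    omega
  have hw : (k ^ m) ^ 2 = 1 := by
    rw [← pow_mul, mul_two, ← hm, pow_orderOf_eq_one]
  have hw1 : k ^ m ≠ 1 := pow_ne_one_of_lt_orderOf hm0.ne' (by omega)
  have hz := eq_zK_of_sq hw hw1
  rw [nrm, hm, Finset.sum_range_add, ← Finset.sum_add_distrib]
  apply Finset.sum_eq_zero
  intro i _
  rw [pow_add, hz, mul_smul, BV_z, add_neg_cancel]

theorem nrm_f0_ne (k : KT) (hk : Odd (orderOf k)) : nrm k f0 ≠ 0 := by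
  intro h
  have h1 : (nrm k f0).1 1 = 1 := by
    rw [nrm]
    have h2 : (∑ i ∈ Finset.range (orderOf k), (k ^ i) • f0).1 1 =
        ∑ i ∈ Finset.range (orderOf k), ((k ^ i) • f0).1 1 := by
      rw [AddSubgroup.val_finsetSum, Finset.sum_apply]
    rw [h2]
    have he : 0 < orderOf k := orderOf_pos k
    obtain ⟨e, he'⟩ : ∃ e, orderOf k = e + 1 := ⟨orderOf k - 1, by omega⟩
    rw [he', Finset.sum_range_succ', pow_zero, BV_smul_apply, mul_one, f0_one]
    have h3 : ∀ i ∈ Finset.range e, ((k ^ (i + 1)) • f0).1 1 = 0 := by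
      intro i hi
      rw [Finset.mem_range] at hi
      rw [BV_smul_apply, one_mul]
      apply f0_apply_of_ne
      · exact pow_ne_one_of_lt_orderOf (Nat.succ_ne_zero i) (by omega)
      · intro hz
        have h4 : (k ^ (i + 1)) ^ 2 = 1 := by rw [hz, sq, zK_sq]
        rw [← pow_mul] at h4
        have h5 := orderOf_dvd_of_pow_eq_one h4
        have h6 : orderOf k ∣ i + 1 :=
          (Nat.Coprime.dvd_of_dvd_mul_right (Nat.Coprime.symm (Nat.coprime_two_left.mpr hk)) h5)
        have := Nat.le_of_dvd (Nat.succ_pos i) h6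
        omega
    rw [Finset.sum_eq_zero h3, zero_add]
  rw [h] at h1
  revert h1
  show (0 : KT → ZMod 3) 1 = 1 → False
  rw [Pi.zero_apply]
  decide

/-! ### the groups `H_j` -/

/-- the module `V_j = A × B^j` -/
abbrev VJ (j : ℕ) : Type := AV × (Fin j → BV)

/-- the group `H_j = V_j ⋊ K` -/
abbrev HJ (j : ℕ) : Type := Multiplicative (VJ j) ⋊[A3.phi KT (VJ j)] KT

instance (j : ℕ) : Finite (HJ j) := Finite.of_equiv _ SemidirectProduct.equivProd.symm

theorem VJ_nsmul21 {j : ℕ} (v : VJ j) : 21 • v = 0 := by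
  apply Prod.ext
  · show 21 • v.1 = 0
    have : (21 : ℕ) = 3 * 7 := rfl
    rw [this, mul_nsmul, AV_seven]
  · show 21 • v.2 = 0
    funext l
    rw [Pi.smul_apply, Pi.zero_apply]
    have : (21 : ℕ) = 7 * 3 := rfl
    rw [this, mul_nsmul, BV_three]

theorem orderOf_HJ {j : ℕ} (v : VJ j) (k : KT) :
    orderOf (⟨Multiplicative.ofAdd v, k⟩ : HJ j) = orderOf k * addOrderOf (nrm k v) :=
  A3.orderOf_mk v k (isOfFinOrder_of_finite k)

theorem orderOf_KT_mem (k : KT) : orderOf k ∈ ({1, 2, 3, 4, 5, 6, 8, 10, 12} : Set ℕ) := by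
  rw [← Subgroup.orderOf_coe]
  exact orderOf_mem (k : GL (Fin 4) (ZMod 7)) k.2

theorem exists_KT_orderOf {n : ℕ} (hn : n ∈ ({1, 2, 3, 4, 5, 6, 8, 10, 12} : Set ℕ)) :
    ∃ k : KT, orderOf k = n := by
  obtain ⟨k, hk, hkn⟩ := exists_orderOf n hn
  exact ⟨⟨k, hk⟩, by rw [← Subgroup.orderOf_coe]; exact hkn⟩

theorem dvd21 {d : ℕ} (h : d ∣ 21) : d = 1 ∨ d = 3 ∨ d = 7 ∨ d = 21 := by
  have hle := Nat.le_of_dvd (by norm_num) h
  interval_cases d <;> revert h <;> decide

theorem dvd3 {d : ℕ} (h : d ∣ 3) : d = 1 ∨ d = 3 := by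
  have hle := Nat.le_of_dvd (by norm_num) h
  interval_cases d <;> revert h <;> decide

theorem spectrum_sub {j : ℕ} (h : HJ j) :
    orderOf h ∈ ({1, 2, 3, 4, 5, 6, 7, 8, 9, 10, 12, 15, 21} : Set ℕ) := by
  obtain ⟨v', k⟩ := h
  obtain ⟨v, rfl⟩ : ∃ v : VJ j, Multiplicative.ofAdd v = v' := ⟨Multiplicative.toAdd v', rfl⟩
  rw [orderOf_HJ]
  by_cases hk : k = 1
  · subst hk
    rw [orderOf_one, one_mul]
    have h1 : addOrderOf (nrm (1 : KT) v) ∣ 21 := addOrderOf_dvd_of_nsmul_eq_zero (VJ_nsmul21 _)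
    rcases dvd21 h1 with h | h | h | h <;> rw [h] <;> simp
  · have hA : (nrm k v).1 = 0 := by rw [nrm_fst]; exact nrm_AV_eq_zero k hk _
    have h3 : 3 • nrm k v = 0 := by
      apply Prod.ext
      · show 3 • (nrm k v).1 = 0
        rw [hA, nsmul_zero]
      · show 3 • (nrm k v).2 = 0
        funext l
        rw [Pi.smul_apply, BV_three, Pi.zero_apply]
    have h1 : addOrderOf (nrm k v) ∣ 3 := addOrderOf_dvd_of_nsmul_eq_zero h3
    have he := orderOf_KT_mem k
    have he1 : orderOf k ≠ 1 := fun h => hk (orderOf_eq_one_iff.mp h)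
    rcases Nat.even_or_odd (orderOf k) with hev | hodd
    · have hB : nrm k v = 0 := by
        apply Prod.ext
        · exact hA
        · funext l
          rw [nrm_snd]
          exact nrm_BV_eq_zero k hev _
      rw [hB, addOrderOf_zero, mul_one]
      simp only [Set.mem_insert_iff, Set.mem_singleton_iff] at he ⊢
      omega
    · rcases dvd3 h1 with h | h <;> rw [h]
      · simp only [Set.mem_insert_iff, Set.mem_singleton_iff] at he ⊢
        omega
      · simp only [Set.mem_insert_iff, Set.mem_singleton_iff] at he ⊢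
        rcases he with he | he | he | he | he | he | he | he | he <;> rw [he] at hodd ⊢ <;>
          first | omega | (exact absurd hodd (by decide))

theorem nrm_zero_right {V : Type*} [AddCommGroup V] [DistribMulAction KT V] (k : KT) :
    nrm k (0 : V) = 0 := by
  rw [nrm]
  apply Finset.sum_eq_zero
  intro i _
  rw [smul_zero]

theorem nrm_one_left {V : Type*} [AddCommGroup V] [DistribMulAction KT V] (v : V) :
    nrm (1 : KT) v = v := by
  rw [nrm, orderOf_one, Finset.sum_range_one, pow_zero, one_smul]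

theorem const_f0_ne (j : ℕ) : (fun _ : Fin (j + 1) => f0) ≠ 0 := by
  intro h
  exact f0_ne (congrFun h 0)

theorem orderOf_HJ_odd (j : ℕ) (k : KT) (hodd : Odd (orderOf k)) :
    orderOf (⟨Multiplicative.ofAdd ((0, fun _ => f0) : VJ (j + 1)), k⟩ : HJ (j + 1)) =
      orderOf k * 3 := by
  rw [orderOf_HJ]
  congr 1
  have : Fact (Nat.Prime 3) := ⟨by norm_num⟩
  apply addOrderOf_eq_prime
  · apply Prod.ext
    · show 3 • (nrm k ((0, fun _ => f0) : VJ (j + 1))).1 = 0
      rw [nrm_fst, nrm_zero_right, nsmul_zero]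
    · show 3 • (nrm k ((0, fun _ => f0) : VJ (j + 1))).2 = 0
      funext l
      rw [Pi.smul_apply, BV_three, Pi.zero_apply]
  · intro h
    have h1 := congrFun (congrArg Prod.snd h) 0
    rw [nrm_snd] at h1
    exact nrm_f0_ne k hodd h1

theorem spectrum_sup (j : ℕ) {n : ℕ}
    (hn : n ∈ ({1, 2, 3, 4, 5, 6, 7, 8, 9, 10, 12, 15, 21} : Set ℕ)) :
    ∃ h : HJ (j + 1), orderOf h = n := by
  have hK : ∀ m ∈ ({1, 2, 3, 4, 5, 6, 8, 10, 12} : Set ℕ), ∃ h : HJ (j + 1), orderOf h = m := by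
    intro m hm
    obtain ⟨k, hk⟩ := exists_KT_orderOf hm
    refine ⟨⟨Multiplicative.ofAdd 0, k⟩, ?_⟩
    rw [orderOf_HJ, nrm_zero_right, addOrderOf_zero, mul_one, hk]
  have hodd : ∀ m ∈ ({3, 5} : Set ℕ), ∃ h : HJ (j + 1), orderOf h = m * 3 := by
    intro m hm
    have hm' : m ∈ ({1, 2, 3, 4, 5, 6, 8, 10, 12} : Set ℕ) := by
      rcases hm with rfl | rfl <;> simp
    obtain ⟨k, hk⟩ := exists_KT_orderOf hm'
    refine ⟨⟨Multiplicative.ofAdd ((0, fun _ => f0) : VJ (j + 1)), k⟩, ?_⟩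
    have hk1 : k ≠ 1 := by
      rintro rfl
      rw [orderOf_one] at hk
      rcases hm with rfl | rfl <;> omega
    have hko : Odd (orderOf k) := by
      rw [hk]
      rcases hm with rfl | rfl <;> decide
    rw [orderOf_HJ_odd j k hko, hk]
  have h7 : addOrderOf x0 = 7 := by
    have : Fact (Nat.Prime 7) := ⟨by norm_num⟩
    exact addOrderOf_eq_prime (AV_seven x0) x0_ne
  have h3 : addOrderOf (fun _ : Fin (j + 1) => f0) = 3 := by
    have : Fact (Nat.Prime 3) := ⟨by norm_num⟩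
    apply addOrderOf_eq_prime _ (const_f0_ne j)
    funext l
    rw [Pi.smul_apply, BV_three, Pi.zero_apply]
  simp only [Set.mem_insert_iff, Set.mem_singleton_iff] at hn
  rcases hn with rfl | rfl | rfl | rfl | rfl | rfl | rfl | rfl | rfl | rfl | rfl | rfl | rfl
  · exact hK 1 (by simp)
  · exact hK 2 (by simp)
  · exact hK 3 (by simp)
  · exact hK 4 (by simp)
  · exact hK 5 (by simp)
  · exact hK 6 (by simp)
  · refine ⟨⟨Multiplicative.ofAdd ((x0, 0) : VJ (j + 1)), 1⟩, ?_⟩
    rw [orderOf_HJ, orderOf_one, one_mul, nrm_one_left, Prod.addOrderOf]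
    show Nat.lcm (addOrderOf x0) (addOrderOf (0 : Fin (j + 1) → BV)) = 7
    rw [h7, addOrderOf_zero]
    rfl
  · exact hK 8 (by simp)
  · exact hodd 3 (by simp)
  · exact hK 10 (by simp)
  · exact hK 12 (by simp)
  · exact hodd 5 (by simp)
  · refine ⟨⟨Multiplicative.ofAdd ((x0, fun _ => f0) : VJ (j + 1)), 1⟩, ?_⟩
    rw [orderOf_HJ, orderOf_one, one_mul, nrm_one_left, Prod.addOrderOf]
    show Nat.lcm (addOrderOf x0) (addOrderOf (fun _ : Fin (j + 1) => f0)) = 21
    rw [h7, h3]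
    rfl

theorem card_HJ (j : ℕ) : 2 ^ j ≤ Nat.card (HJ j) := by
  have h1 : Nat.card (HJ j) = Nat.card (Multiplicative (VJ j)) * Nat.card KT := by
    rw [Nat.card_congr (SemidirectProduct.equivProd (φ := A3.phi KT (VJ j))), Nat.card_prod]
  have h2 : Nat.card (Multiplicative (VJ j)) = Nat.card AV * Nat.card (Fin j → BV) := by
    rw [← Nat.card_prod]
    exact Nat.card_congr Multiplicative.toAdd
  have h3 : Nat.card (Fin j → BV) = Nat.card BV ^ j := by
    rw [Nat.card_fun, Nat.card_fin]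
  have : Nontrivial BV := ⟨⟨f0, 0, f0_ne⟩⟩
  have h4 : 2 ≤ Nat.card BV := Finite.one_lt_card
  have h5 : 1 ≤ Nat.card KT := Nat.card_pos
  have h6 : 1 ≤ Nat.card AV := Nat.card_pos
  rw [h1, h2, h3]
  calc 2 ^ j ≤ Nat.card BV ^ j := Nat.pow_le_pow_left h4 j
    _ = 1 * Nat.card BV ^ j * 1 := by ring
    _ ≤ Nat.card AV * Nat.card BV ^ j * Nat.card KT :=
        Nat.mul_le_mul (Nat.mul_le_mul h6 le_rfl) h5

/-- the main theorem -/
theorem main (N : ℕ) : ∃ (H : Type) (_ : Group H) (_ : Fintype H), N < Fintype.card H ∧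
    Set.range (orderOf : H → ℕ) = Set.range (orderOf : alternatingGroup (Fin 10) → ℕ) := by
  refine ⟨HJ (N + 1), inferInstance, Fintype.ofFinite _, ?_, ?_⟩
  · rw [← @Nat.card_eq_fintype_card _ (Fintype.ofFinite _)]
    calc N < 2 ^ N := Nat.lt_two_pow_self
      _ ≤ 2 ^ (N + 1) := Nat.pow_le_pow_right (by norm_num) (Nat.le_succ N)
      _ ≤ Nat.card (HJ (N + 1)) := card_HJ (N + 1)
  · rw [a10_spectrum]
    ext n
    constructor
    · rintro ⟨h, rfl⟩
      exact spectrum_sub h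
    · intro hn
      exact spectrum_sup N hn

end Cfsg.Agent.Lib.A10
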